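import Mathlib.CategoryTheory.Subobject.Basic
import Mathlib.CategoryTheory.Subobject.FactorThru
import Groth.Agent.S5217

/-! Covers, descent and images in the category of sheaves of sets on a site. -/

set_option autoImplicit false
universe w v₁ u₁ v u

open CategoryTheory CategoryTheory.Limits

namespace Groth.Agent.ShfCat16

/-- The exactness properties of a category of sheaves of sets that are used here. -/
class SetLike (D : Type u) [Category.{v} D] : Prop where
  /-- every epimorphism is effective -/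
  effectiveEpi : ∀ {A B : D} (f : A ⟶ B) [Epi f], EffectiveEpi f
  /-- epimorphisms are stable under pullback -/
  epi_pullback : ∀ {A B A' B' : D} {f' : A' ⟶ B'} {f : A ⟶ B} {i : A' ⟶ A} {j : B' ⟶ B},
    IsPullback i f' f j → Epi f → Epi f'
  /-- equivalence relations are universally effective -/
  uee : ∀ {R X : D} (p₁ p₂ : R ⟶ X) [IsEquivalenceRelation p₁ p₂],
    IsUniversallyEffectiveEquivalenceRelation p₁ p₂

instance {C : Type u₁} [Category.{v₁} C] {J : GrothendieckTopology C} [HasSheafify J (Type w)] :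
    SetLike (Sheaf J (Type w)) where
  effectiveEpi f _ := (isRegularEpi_iff_effectiveEpi f).1 (IsRegularEpiCategory.regularEpiOfEpi f)
  epi_pullback sq hf :=
    haveI := hf
    haveI := Groth.Agent.S5217.effectiveEpi_of_epi_pullback sq
    inferInstance
  uee p₁ p₂ _ := Groth.Agent.S5217.result _ p₁ p₂

variable {D : Type u} [Category.{v} D] [HasPullbacks D] [SetLike D]

omit [HasPullbacks D] in
/-- An epimorphism is effective. -/
theorem effectiveEpi_of_epi {A B : D} (f : A ⟶ B) [Epi f] : EffectiveEpi f :=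
  SetLike.effectiveEpi f

omit [HasPullbacks D] in
/-- Epimorphisms are stable under pullback. -/
theorem epi_of_isPullback {A B A' B' : D} {f' : A' ⟶ B'} {f : A ⟶ B}
    {i : A' ⟶ A} {j : B' ⟶ B} (sq : IsPullback i f' f j) [Epi f] : Epi f' :=
  SetLike.epi_pullback sq inferInstance

/-- A point of the target of an epimorphism lifts to the source after passing to a cover. -/
theorem exists_cover {A B W : D} (f : A ⟶ B) [Epi f] (x : W ⟶ B) :
    ∃ (W' : D) (c : W' ⟶ W) (a : W' ⟶ A), Epi c ∧ a ≫ f = c ≫ x :=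
  ⟨pullback f x, pullback.snd f x, pullback.fst f x,
    epi_of_isPullback (IsPullback.of_hasPullback f x), pullback.condition⟩

/-- Descent along a cover of a factorization through a monomorphism. -/
theorem exists_lift {P K A B : D} (c : P ⟶ K) [Epi c] (m : A ⟶ B) [Mono m]
    (x : K ⟶ B) (t : P ⟶ A) (h : t ≫ m = c ≫ x) : ∃ l : K ⟶ A, l ≫ m = x := by
  haveI := effectiveEpi_of_epi c
  refine ⟨EffectiveEpi.desc c t fun g₁ g₂ hg => ?_, ?_⟩
  · rw [← cancel_mono m, Category.assoc, Category.assoc, h, ← Category.assoc, hg, Category.assoc]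
  · rw [← cancel_epi c, ← Category.assoc, EffectiveEpi.fac, h]

/-- A morphism out of a quotient is mono as soon as it is injective on points of the cover. -/
theorem mono_of_cover {Y I B : D} (q : Y ⟶ I) [Epi q] (m : I ⟶ B)
    (h : ∀ (W : D) (a b : W ⟶ Y), a ≫ q ≫ m = b ≫ q ≫ m → a ≫ q = b ≫ q) :
    Mono m := by
  refine ⟨fun {W} a b hab => ?_⟩
  obtain ⟨W₁, c₁, a', hc₁, ha⟩ := exists_cover q a
  obtain ⟨W₂, c₂, b', hc₂, hb⟩ := exists_cover q (c₁ ≫ b)
  have h' := h W₂ (c₂ ≫ a') b' (by
    rw [← Category.assoc b', hb, ← Category.assoc (c₂ ≫ a'), Category.assoc c₂ a', ha]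
    simp only [Category.assoc, hab])
  rw [hb, Category.assoc, ha] at h'
  exact (cancel_epi c₁).1 ((cancel_epi c₂).1 h')

/-- Every morphism of sheaves of sets is an epimorphism followed by a monomorphism. -/
theorem exists_image [HasCoequalizers D] {Y B : D} (f : Y ⟶ B) :
    ∃ (I : D) (q : Y ⟶ I) (m : I ⟶ B), Epi q ∧ Mono m ∧ q ≫ m = f := by
  refine ⟨coequalizer (pullback.fst f f) (pullback.snd f f), coequalizer.π _ _,
    coequalizer.desc f pullback.condition, inferInstance, ?_, coequalizer.π_desc _ _⟩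
  refine mono_of_cover (coequalizer.π _ _) _ fun W a b hab => ?_
  rw [coequalizer.π_desc] at hab
  have h := pullback.lift a b hab ≫= coequalizer.condition (pullback.fst f f) (pullback.snd f f)
  rwa [← Category.assoc, ← Category.assoc, pullback.lift_fst, pullback.lift_snd] at h

/-- Points of a subobject. -/
abbrev Mem {X W : D} (K : Subobject X) (x : W ⟶ X) : Prop :=
  ∃ z : W ⟶ (K : D), z ≫ K.arrow = x

theorem mem_pullback_iff {X Y W : D} (f : X ⟶ Y) (K : Subobject Y) (x : W ⟶ X) :
    Mem ((Subobject.pullback f).obj K) x ↔ Mem K (x ≫ f) := by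
  have h := Subobject.isPullback f K
  refine ⟨fun ⟨z, hz⟩ => ⟨z ≫ Subobject.pullbackπ f K, ?_⟩, fun ⟨z, hz⟩ => ⟨h.lift z x hz, h.lift_snd ..⟩⟩
  rw [Category.assoc, h.w, ← Category.assoc, hz]

theorem mem_descend {X W W' : D} {K : Subobject X} {x : W ⟶ X} (c : W' ⟶ W) [Epi c]
    (h : Mem K (c ≫ x)) : Mem K x :=
  exists_lift c K.arrow x h.choose h.choose_spec

theorem mem_mk_iff {X A W : D} (f : A ⟶ X) [Mono f] (x : W ⟶ X) :
    Mem (Subobject.mk f) x ↔ ∃ z : W ⟶ A, z ≫ f = x := by
  refine ⟨fun ⟨z, hz⟩ => ⟨z ≫ (Subobject.underlyingIso f).hom, ?_⟩,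
    fun ⟨z, hz⟩ => ⟨z ≫ (Subobject.underlyingIso f).inv, ?_⟩⟩
  · rw [Category.assoc, Subobject.underlyingIso_hom_comp_eq_mk, hz]
  · rw [Category.assoc, Subobject.underlyingIso_arrow, hz]

theorem le_of_mem {X : D} {K L : Subobject X} (h : Mem L K.arrow) : K ≤ L :=
  Subobject.le_of_comm h.choose h.choose_spec

theorem mem_of_le {X W : D} {K L : Subobject X} (h : K ≤ L) {x : W ⟶ X}
    (hx : Mem K x) : Mem L x :=
  ⟨hx.choose ≫ K.ofLE L h, by rw [Category.assoc, Subobject.ofLE_arrow, hx.choose_spec]⟩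

theorem mem_arrow {X : D} (K : Subobject X) : Mem K K.arrow :=
  ⟨𝟙 _, Category.id_comp _⟩

/-- Inverse image along an epimorphism reflects the order. -/
theorem le_of_pullback_le {X B : D} (π : X ⟶ B) [Epi π] {K L : Subobject B}
    (h : (Subobject.pullback π).obj K ≤ (Subobject.pullback π).obj L) : K ≤ L := by
  apply le_of_mem
  obtain ⟨W', c, a, hc, ha⟩ := exists_cover π K.arrow
  refine mem_descend c ?_
  rw [← ha, ← mem_pullback_iff]
  refine mem_of_le h ((mem_pullback_iff π K a).2 ?_)
  exact ⟨c, by rw [ha]⟩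

theorem pullback_injective {X B : D} (π : X ⟶ B) [Epi π] :
    Function.Injective (Subobject.pullback π).obj :=
  fun _ _ h => le_antisymm (le_of_pullback_le π h.le) (le_of_pullback_le π h.ge)

/-- A subobject containing, with any point, all points in the same fibre comes from the target. -/
theorem exists_eq_pullback [HasCoequalizers D] {X B : D} (π : X ⟶ B) (Y : Subobject X)
    (h : ∀ (W : D) (y x : W ⟶ X), y ≫ π = x ≫ π → Mem Y y → Mem Y x) :
    ∃ K : Subobject B, (Subobject.pullback π).obj K = Y := by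
  obtain ⟨I, q, m, hq, hm, hqm⟩ := exists_image (Y.arrow ≫ π)
  refine ⟨Subobject.mk m, le_antisymm (le_of_mem ?_) (le_of_mem ?_)⟩
  · set P := (Subobject.pullback π).obj (Subobject.mk m)
    obtain ⟨i, hi⟩ := (mem_mk_iff m _).1 ((mem_pullback_iff π _ P.arrow).1 (mem_arrow P))
    obtain ⟨W', c, y, hc, hy⟩ := exists_cover q i
    refine mem_descend c (h W' (y ≫ Y.arrow) (c ≫ P.arrow) ?_ ⟨y, rfl⟩)
    rw [Category.assoc, ← hqm, ← Category.assoc, hy, Category.assoc, hi, Category.assoc]
  · rw [mem_pullback_iff, mem_mk_iff]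
    exact ⟨q, hqm⟩

theorem uee_epi {R X : D} {p₁ p₂ : R ⟶ X}
    (e : UniversallyEffectiveEquivalenceRelation p₁ p₂) : Epi e.π :=
  ⟨fun _ _ hgh => e.isPushout.hom_ext hgh hgh⟩

end Groth.Agent.ShfCat16
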