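import Mathlib.CategoryTheory.Monoidal.Cartesian.Grp
import Mathlib.Tactic.Group
import Groth.Agent.ShfCat16.Basic

/-! Quotients of sheaves of groups by subgroup sheaves, computed on points. -/

set_option autoImplicit false
universe w v₁ u₁ v u

open CategoryTheory CategoryTheory.Limits MonoidalCategory CartesianMonoidalCategory
open scoped CategoryTheory.MonObj

namespace Groth.Agent.ShfCat16

section General

variable {D : Type u} [Category.{v} D] [CartesianMonoidalCategory D]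

/-- A group object structure from laws checked on points. -/
theorem exists_grpObj {Q : D} (one : 𝟙_ D ⟶ Q) (mul : Q ⊗ Q ⟶ Q) (inv : Q ⟶ Q)
    (assoc : ∀ (W : D) (x y z : W ⟶ Q), lift (lift x y ≫ mul) z ≫ mul = lift x (lift y z ≫ mul) ≫ mul)
    (oneMul : ∀ (W : D) (x : W ⟶ Q), lift (toUnit W ≫ one) x ≫ mul = x)
    (mulOne : ∀ (W : D) (x : W ⟶ Q), lift x (toUnit W ≫ one) ≫ mul = x)
    (invMul : ∀ (W : D) (x : W ⟶ Q), lift (x ≫ inv) x ≫ mul = toUnit W ≫ one)
    (mulInv : ∀ (W : D) (x : W ⟶ Q), lift x (x ≫ inv) ≫ mul = toUnit W ≫ one) :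
    ∃ str : GrpObj Q, str.one = one ∧ str.mul = mul := by
  refine ⟨{ one := one, mul := mul, one_mul := ?_, mul_one := ?_, mul_assoc := ?_, inv := inv,
            left_inv := ?_, right_inv := ?_ }, rfl, rfl⟩
  · have h := oneMul (𝟙_ D ⊗ Q) (snd (𝟙_ D) Q)
    rw [show one ▷ Q = lift (toUnit _ ≫ one) (snd (𝟙_ D) Q) from by
      apply CartesianMonoidalCategory.hom_ext
      · rw [whiskerRight_fst, lift_fst, toUnit_unique (fst (𝟙_ D) Q) (toUnit _)]
      · rw [whiskerRight_snd, lift_snd]]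
    rw [h, leftUnitor_hom]
  · have h := mulOne (Q ⊗ 𝟙_ D) (fst Q (𝟙_ D))
    rw [show Q ◁ one = lift (fst Q (𝟙_ D)) (toUnit _ ≫ one) from by
      apply CartesianMonoidalCategory.hom_ext
      · rw [whiskerLeft_fst, lift_fst]
      · rw [whiskerLeft_snd, lift_snd, toUnit_unique (snd Q (𝟙_ D)) (toUnit _)]]
    rw [h, rightUnitor_hom]
  · have h := assoc ((Q ⊗ Q) ⊗ Q) (fst _ _ ≫ fst _ _) (fst _ _ ≫ snd _ _) (snd _ _)
    rw [show mul ▷ Q = lift (lift (fst (Q ⊗ Q) Q ≫ fst _ _) (fst _ _ ≫ snd _ _) ≫ mul) (snd _ _) from by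
      apply CartesianMonoidalCategory.hom_ext <;> simp [← comp_lift]]
    rw [h, ← Category.assoc (α_ Q Q Q).hom]
    congr 1
    apply CartesianMonoidalCategory.hom_ext
    · simp
    · rw [lift_snd, Category.assoc, whiskerLeft_snd, ← Category.assoc]
      congr 1
      apply CartesianMonoidalCategory.hom_ext <;> simp
  · simpa using invMul Q (𝟙 Q)
  · simpa using mulInv Q (𝟙 Q)

/-- A monomorphism into a group object whose points are closed under the operations carries a group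
structure. -/
theorem exists_grpObj_of_mono {K G : D} [GrpObj G] (m : K ⟶ G) [Mono m]
    (hone : ∃ o : 𝟙_ D ⟶ K, o ≫ m = 1) (hmul : ∀ (W : D) (x y : W ⟶ K), ∃ z : W ⟶ K, z ≫ m = x ≫ m * y ≫ m)
    (hinv : ∀ (W : D) (x : W ⟶ K), ∃ z : W ⟶ K, z ≫ m = (x ≫ m)⁻¹) :
    ∃ str : GrpObj K, @IsMonHom D _ _ K G str.toMonObj _ m := by
  obtain ⟨o, ho⟩ := hone
  obtain ⟨μ', hμ'⟩ := hmul (K ⊗ K) (fst K K) (snd K K)
  obtain ⟨ι', hι'⟩ := hinv K (𝟙 K)
  have hm : ∀ {W : D} (x y : W ⟶ K), (lift x y ≫ μ') ≫ m = x ≫ m * y ≫ m := fun x y => by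
    rw [Category.assoc, hμ', MonObj.comp_mul, lift_fst_assoc, lift_snd_assoc]
  have hi : ∀ {W : D} (x : W ⟶ K), (x ≫ ι') ≫ m = (x ≫ m)⁻¹ := fun x => by
    rw [Category.assoc, hι', GrpObj.comp_inv, Category.id_comp]
  have ho' : ∀ {W : D}, (toUnit W ≫ o) ≫ m = (1 : W ⟶ G) := fun {W} => by
    rw [Category.assoc, ho, MonObj.comp_one]
  obtain ⟨str, h1, h2⟩ := exists_grpObj o μ' ι'
    (fun W x y z => by rw [← cancel_mono m, hm, hm, hm, hm, mul_assoc])
    (fun W x => by rw [← cancel_mono m, hm, ho', one_mul])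
    (fun W x => by rw [← cancel_mono m, hm, ho', mul_one])
    (fun W x => by rw [← cancel_mono m, hm, hi, ho', inv_mul_cancel])
    (fun W x => by rw [← cancel_mono m, hm, hi, ho', mul_inv_cancel])
  refine ⟨str, ⟨?_, ?_⟩⟩
  · show str.one ≫ m = _
    rw [h1, ho, Hom.one_def, toUnit_unit, Category.id_comp]
  · show str.mul ≫ m = _
    rw [h2, hμ', Hom.mul_def]
    congr 1
    apply CartesianMonoidalCategory.hom_ext <;> simp

end General

variable {D : Type u} [Category.{v} D] [CartesianMonoidalCategory D] [HasPullbacks D] [HasCoequalizers D]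
  [SetLike D]
variable {H G : D} [GrpObj H] [GrpObj G] (u : H ⟶ G)

omit [HasPullbacks D] [HasCoequalizers D] [SetLike D] [GrpObj H] in
/-- The translation map `G × H ⟶ G`. -/
theorem lift_act {W : D} (a : W ⟶ G) (h : W ⟶ H) :
    lift a h ≫ (G ◁ u) ≫ μ[G] = a * h ≫ u := by
  rw [lift_whiskerLeft_assoc, Hom.mul_def]

omit [HasPullbacks D] [HasCoequalizers D] [SetLike D] [GrpObj H] in
theorem act_eq : (G ◁ u) ≫ μ[G] = fst G H * snd G H ≫ u := by
  rw [← lift_act u (fst G H) (snd G H), lift_fst_snd, Category.id_comp]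

/-- The quotient map of the translation relation is invariant. -/
theorem π_eq_of_mul {W : D} (a : W ⟶ G) (h : W ⟶ H) :
    a ≫ coequalizer.π (fst G H) ((G ◁ u) ≫ μ[G]) = (a * h ≫ u) ≫ coequalizer.π (fst G H) ((G ◁ u) ≫ μ[G]) := by
  have := lift a h ≫= coequalizer.condition (fst G H) ((G ◁ u) ≫ μ[G])
  rwa [← Category.assoc, ← Category.assoc (lift a h), lift_fst, lift_act] at this

variable [Mono u] [IsMonHom u]

/-- The translation relation of a subgroup sheaf is an equivalence relation. -/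
theorem isEquivalenceRelation_act : IsEquivalenceRelation (fst G H) ((G ◁ u) ≫ μ[G]) := by
  have hmono : JointlyMono₂ (fst G H) ((G ◁ u) ≫ μ[G]) := ⟨fun W f g h₁ h₂ => by
    rw [act_eq, MonObj.comp_mul, MonObj.comp_mul, h₁] at h₂
    have h₃ := mul_left_cancel h₂
    rw [← Category.assoc, ← Category.assoc, cancel_mono] at h₃
    exact CartesianMonoidalCategory.hom_ext _ _ h₁ h₃⟩
  have key : ∀ {W : D} (k : W ⟶ G ⊗ H),
      k ≫ (G ◁ u) ≫ μ[G] = k ≫ fst G H * (k ≫ snd G H) ≫ u := fun k => by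
    rw [act_eq, MonObj.comp_mul, Category.assoc]
  obtain ⟨t, ht₁, ht₂⟩ : ∃ t : pullback ((G ◁ u) ≫ μ[G]) (fst G H) ⟶ G ⊗ H,
      t ≫ fst G H = pullback.fst ((G ◁ u) ≫ μ[G]) (fst G H) ≫ fst G H ∧
      t ≫ (G ◁ u) ≫ μ[G] = pullback.snd ((G ◁ u) ≫ μ[G]) (fst G H) ≫ (G ◁ u) ≫ μ[G] := by
    refine ⟨lift (pullback.fst _ _ ≫ fst G H)
      ((pullback.fst _ _ ≫ snd G H) * (pullback.snd _ _ ≫ snd G H)), lift_fst _ _, ?_⟩
    have h := (pullback.condition (f := (G ◁ u) ≫ μ[G]) (g := fst G H)).symm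
    rw [key] at h
    rw [lift_act, key, h, MonObj.mul_comp, mul_assoc]
  refine ⟨⟨{
    toReflexiveRelation := { toJointlyMono₂ := hmono, r := lift (𝟙 G) 1, reflexivity₁ := lift_fst _ _,
                             reflexivity₂ := ?_ }
    s := lift ((G ◁ u) ≫ μ[G]) (snd G H)⁻¹
    symmetry₁ := lift_fst _ _
    symmetry₂ := ?_
    c := pullback.cone ((G ◁ u) ≫ μ[G]) (fst G H)
    isLimit := pullback.isLimit _ _
    t := t
    transitivity₁ := ht₁
    transitivity₂ := ht₂ }⟩⟩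
  · rw [lift_act, MonObj.one_comp, mul_one]
  · rw [lift_act, GrpObj.inv_comp, act_eq, mul_inv_cancel_right]

/-- The universally effective quotient of the translation relation. -/
theorem exists_uee_act :
    Nonempty (UniversallyEffectiveEquivalenceRelation (fst G H) ((G ◁ u) ≫ μ[G])) :=
  haveI := isEquivalenceRelation_act u
  (SetLike.uee (fst G H) ((G ◁ u) ≫ μ[G])).nonempty_universallyEffectiveEquivalenceRelation

/-- Two points have the same class iff they differ by a point of the subgroup. -/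
theorem π_eq_iff {W : D} (a b : W ⟶ G) :
    a ≫ coequalizer.π (fst G H) ((G ◁ u) ≫ μ[G]) = b ≫ coequalizer.π (fst G H) ((G ◁ u) ≫ μ[G]) ↔
      ∃ h : W ⟶ H, a * h ≫ u = b := by
  refine ⟨fun hab => ?_, fun ⟨h, hh⟩ => hh ▸ π_eq_of_mul u a h⟩
  obtain ⟨e⟩ := exists_uee_act u
  have heq : a ≫ e.π = b ≫ e.π := by
    have hd := coequalizer.π_desc (f := fst G H) (g := (G ◁ u) ≫ μ[G]) e.π e.isKernelPair.w
    exact ((congrArg (a ≫ ·) hd).symm.trans ((Category.assoc _ _ _).symm.trans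
      (congrArg (· ≫ _) hab))).trans ((Category.assoc _ _ _).trans (congrArg (b ≫ ·) hd))
  have h₁ := e.isKernelPair.lift_fst a b heq
  have h₂ := e.isKernelPair.lift_snd a b heq
  have key : ∀ r : W ⟶ G ⊗ H, r ≫ fst G H = a → r ≫ (G ◁ u) ≫ μ[G] = b → ∃ h : W ⟶ H, a * h ≫ u = b := by
    intro r h₁ h₂
    refine ⟨r ≫ snd G H, ?_⟩
    rw [act_eq, MonObj.comp_mul, h₁, ← Category.assoc] at h₂
    exact h₂
  exact key _ h₁ h₂

omit [Mono u] [IsMonHom u] [GrpObj H] in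
theorem epi_π : Epi (coequalizer.π (fst G H) ((G ◁ u) ≫ μ[G])) := inferInstance

omit [GrpObj H] [GrpObj G] in
/-- Two points lift simultaneously after passing to a cover. -/
theorem exists_cover₂ {A B A' B' W : D} (f : A ⟶ B) [Epi f] (f' : A' ⟶ B') [Epi f']
    (x : W ⟶ B) (x' : W ⟶ B') :
    ∃ (W' : D) (c : W' ⟶ W) (a : W' ⟶ A) (a' : W' ⟶ A'),
      Epi c ∧ a ≫ f = c ≫ x ∧ a' ≫ f' = c ≫ x' := by
  obtain ⟨W₁, c₁, a, hc₁, ha⟩ := exists_cover f x
  obtain ⟨W₂, c₂, a', hc₂, ha'⟩ := exists_cover f' (c₁ ≫ x')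
  exact ⟨W₂, c₂ ≫ c₁, c₂ ≫ a, a', epi_comp c₂ c₁, by simp [ha], by simp [ha']⟩

omit [GrpObj H] [GrpObj G] in
/-- A product of epimorphisms of sheaves of sets is an epimorphism. -/
theorem epi_tensorHom {A B A' B' : D} (f : A ⟶ B) [Epi f] (f' : A' ⟶ B') [Epi f'] :
    Epi (f ⊗ₘ f') := by
  obtain ⟨W', c, a, a', hc, ha, ha'⟩ := exists_cover₂ f f' (fst B B') (snd B B')
  have h : lift a a' ≫ (f ⊗ₘ f') = c := by
    apply CartesianMonoidalCategory.hom_ext <;> simp [ha, ha']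
  have : Epi (lift a a' ≫ (f ⊗ₘ f')) := h ▸ hc
  exact epi_of_epi (lift a a') _

omit [GrpObj H] [GrpObj G] in
theorem epi_whiskerLeft (A : D) {A' B' : D} (f' : A' ⟶ B') [Epi f'] :
    Epi (A ◁ f') := by
  rw [← id_tensorHom]
  exact epi_tensorHom (𝟙 A) f'

end Groth.Agent.ShfCat16
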