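import Groth.Agent.ShfCat16.Quot

/-! The quotient group sheaf, the action on cosets and the isomorphism theorems. -/

set_option autoImplicit false
universe v u

open CategoryTheory CategoryTheory.Limits MonoidalCategory CartesianMonoidalCategory
open scoped CategoryTheory.MonObj

namespace Groth.Agent.ShfCat16

variable {D : Type u} [Category.{v} D] [CartesianMonoidalCategory D] [HasPullbacks D] [HasCoequalizers D]
  [SetLike D]

theorem isKernelPair_second_iso {H L G : D} [GrpObj H] [GrpObj L] [GrpObj G]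
    (u : H ⟶ G) (l : L ⟶ G) [Mono u] [Mono l] [IsMonHom u] [IsMonHom l] :
    IsKernelPair (l ≫ coequalizer.π (fst G H) ((G ◁ u) ≫ μ[G]))
      (fst L (pullback u l)) ((L ◁ pullback.snd u l) ≫ μ[L]) := by
  have key : ∀ {W : D} (a : W ⟶ L) (k : W ⟶ pullback u l),
      lift a k ≫ (L ◁ pullback.snd u l) ≫ μ[L] = a * k ≫ pullback.snd u l := fun a k =>
    lift_act _ a k
  have lift_ex : ∀ (W : D) (a b : W ⟶ L),
      a ≫ l ≫ coequalizer.π (fst G H) ((G ◁ u) ≫ μ[G]) = b ≫ l ≫ coequalizer.π (fst G H) ((G ◁ u) ≫ μ[G]) →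
      ∃ r : W ⟶ L ⊗ pullback u l, r ≫ fst _ _ = a ∧ r ≫ (L ◁ pullback.snd u l) ≫ μ[L] = b := by
    intro W a b hab
    rw [← Category.assoc, ← Category.assoc b, π_eq_iff u] at hab
    obtain ⟨h, hh⟩ := hab
    have hh' : h ≫ u = (a⁻¹ * b) ≫ l := by
      rw [MonObj.mul_comp, GrpObj.inv_comp, ← hh, inv_mul_cancel_left]
    refine ⟨lift a (pullback.lift h (a⁻¹ * b) hh'), lift_fst _ _, ?_⟩
    rw [key, pullback.lift_snd, mul_inv_cancel_left]
  refine ⟨⟨?_⟩, ⟨PullbackCone.isLimitAux' _ fun s => ?_⟩⟩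
  · rw [← Category.assoc, ← Category.assoc _ l]
    refine (π_eq_iff u _ _).2 ⟨snd L (pullback u l) ≫ pullback.fst u l, ?_⟩
    rw [act_eq, MonObj.mul_comp, Category.assoc, Category.assoc, pullback.condition]
  · let hr := lift_ex _ s.fst s.snd s.condition
    refine ⟨hr.choose, hr.choose_spec.1, hr.choose_spec.2, fun {m} h₁ h₂ => ?_⟩
    have main : ∀ {W : D} (r r' : W ⟶ L ⊗ pullback u l), r ≫ fst _ _ = r' ≫ fst _ _ →
        r ≫ (L ◁ pullback.snd u l) ≫ μ[L] = r' ≫ (L ◁ pullback.snd u l) ≫ μ[L] → r = r' := by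
      intro W r r' e₁ e₂
      rw [act_eq, MonObj.comp_mul, MonObj.comp_mul, e₁] at e₂
      have e₃ := mul_left_cancel e₂
      rw [← Category.assoc, ← Category.assoc, cancel_mono] at e₃
      exact CartesianMonoidalCategory.hom_ext _ _ e₁ e₃
    exact main _ _ (Eq.trans h₁ hr.choose_spec.1.symm) (Eq.trans h₂ hr.choose_spec.2.symm)

theorem existsUnique_grpObj_quotient {H G : D} [GrpObj H] [hG : GrpObj G] (u : H ⟶ G) [Mono u] [IsMonHom u]
    (hn : ∀ (Y : D) (g : Y ⟶ G) (h : Y ⟶ H), ∃ h' : Y ⟶ H, g * (h ≫ u) * g⁻¹ = h' ≫ u) :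
    ∃! str : GrpObj (coequalizer (fst G H) ((G ◁ u) ≫ μ[G])),
      @IsMonHom D _ _ G (coequalizer (fst G H) ((G ◁ u) ≫ μ[G])) hG.toMonObj str.toMonObj
        (coequalizer.π (fst G H) ((G ◁ u) ≫ μ[G])) := by
  let π := coequalizer.π (fst G H) ((G ◁ u) ≫ μ[G])
  haveI : Epi π := inferInstanceAs (Epi (coequalizer.π _ _))
  haveI := epi_tensorHom π π
  haveI := effectiveEpi_of_epi (π ⊗ₘ π)
  haveI := effectiveEpi_of_epi π
  have cmul : ∀ {W : D} (a a' b b' : W ⟶ G), a ≫ π = a' ≫ π → b ≫ π = b' ≫ π →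
      (a * b) ≫ π = (a' * b') ≫ π := by
    intro W a a' b b' ha hb
    obtain ⟨h₁, rfl⟩ := (π_eq_iff u a a').1 ha
    obtain ⟨h₂, rfl⟩ := (π_eq_iff u b b').1 hb
    obtain ⟨h₃, h₃e⟩ := hn W b⁻¹ h₁
    refine (π_eq_iff u _ _).2 ⟨h₃ * h₂, ?_⟩
    rw [MonObj.mul_comp, ← h₃e]
    group
  have cinv : ∀ {W : D} (a a' : W ⟶ G), a ≫ π = a' ≫ π → a⁻¹ ≫ π = a'⁻¹ ≫ π := by
    intro W a a' ha
    obtain ⟨h₁, rfl⟩ := (π_eq_iff u a a').1 ha
    obtain ⟨h₃, h₃e⟩ := hn W a h₁⁻¹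
    refine (π_eq_iff u _ _).2 ⟨h₃, ?_⟩
    rw [← h₃e, GrpObj.inv_comp]
    group
  have hcm : ∀ {W : D} (x y : W ⟶ G ⊗ G), x ≫ (π ⊗ₘ π) = y ≫ (π ⊗ₘ π) →
      x ≫ μ[G] ≫ π = y ≫ μ[G] ≫ π := by
    intro W x y hxy
    have e₁ := hxy =≫ fst _ _
    have e₂ := hxy =≫ snd _ _
    simp only [Category.assoc, tensorHom_fst, tensorHom_snd] at e₁ e₂
    rw [← Category.assoc] at e₁ e₂
    have := cmul (x ≫ fst _ _) (y ≫ fst _ _) (x ≫ snd _ _) (y ≫ snd _ _)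
      (by simpa using e₁) (by simpa using e₂)
    rw [Hom.mul_def, Hom.mul_def, ← comp_lift, ← comp_lift, lift_fst_snd, Category.comp_id,
      Category.comp_id, Category.assoc, Category.assoc] at this
    exact this
  let μ' := EffectiveEpi.desc (π ⊗ₘ π) (μ[G] ≫ π) hcm
  have hμ' : (π ⊗ₘ π) ≫ μ' = μ[G] ≫ π := EffectiveEpi.fac _ _ _
  have hm : ∀ {W : D} (a b : W ⟶ G), lift (a ≫ π) (b ≫ π) ≫ μ' = (a * b) ≫ π := by
    intro W a b
    rw [← lift_map, Category.assoc, hμ', ← Category.assoc, Hom.mul_def]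
  let ι' := EffectiveEpi.desc π ((𝟙 G)⁻¹ ≫ π) fun {W} x y hxy => by
    rw [← Category.assoc, ← Category.assoc, GrpObj.comp_inv, GrpObj.comp_inv, Category.comp_id,
      Category.comp_id]
    exact cinv x y hxy
  have hi : ∀ {W : D} (a : W ⟶ G), (a ≫ π) ≫ ι' = a⁻¹ ≫ π := by
    intro W a
    rw [Category.assoc, EffectiveEpi.fac, ← Category.assoc, GrpObj.comp_inv, Category.comp_id]
  have ho : ∀ {W : D}, toUnit W ≫ (η[G] ≫ π) = (1 : W ⟶ G) ≫ π := fun {W} => by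
    rw [← Category.assoc, Hom.one_def]
  have tu : ∀ {W W' : D} (c : W' ⟶ W) (g : 𝟙_ D ⟶ coequalizer (fst G H) ((G ◁ u) ≫ μ[G])),
      c ≫ toUnit W ≫ g = toUnit W' ≫ g := fun c g => by rw [← Category.assoc, comp_toUnit]
  obtain ⟨str, h1, h2⟩ := exists_grpObj (η[G] ≫ π) μ' ι'
    (fun W x y z => by
      obtain ⟨W₁, c₁, a, b, hc₁, ha, hb⟩ := exists_cover₂ π π x y
      obtain ⟨W₂, c₂, c, hc₂, hc⟩ := exists_cover π (c₁ ≫ z)
      rw [← cancel_epi c₁, ← cancel_epi c₂]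
      simp only [← Category.assoc, comp_lift]
      simp only [← hc, Category.assoc, ← ha, ← hb, comp_lift_assoc, comp_lift]
      rw [← Category.assoc c₂ a, ← Category.assoc c₂ b, hm, hm, hm, hm, mul_assoc])
    (fun W x => by
      obtain ⟨W', c, a, hc, ha⟩ := exists_cover π x
      rw [← cancel_epi c, comp_lift_assoc, tu, ho, ← ha, hm, one_mul])
    (fun W x => by
      obtain ⟨W', c, a, hc, ha⟩ := exists_cover π x
      rw [← cancel_epi c, comp_lift_assoc, tu, ho, ← ha, hm, mul_one])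
    (fun W x => by
      obtain ⟨W', c, a, hc, ha⟩ := exists_cover π x
      rw [← cancel_epi c, comp_lift_assoc, tu, ho, ← Category.assoc c x, ← ha, hi, hm, inv_mul_cancel])
    (fun W x => by
      obtain ⟨W', c, a, hc, ha⟩ := exists_cover π x
      rw [← cancel_epi c, comp_lift_assoc, tu, ho, ← Category.assoc c x, ← ha, hi, hm, mul_inv_cancel])
  refine ⟨str, ⟨?_, ?_⟩, fun str' hstr' => ?_⟩
  · exact h1.symm
  · show μ[G] ≫ π = (π ⊗ₘ π) ≫ str.mul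
    rw [h2, hμ']
  · have hm' := @IsMonHom.mul_hom D _ _ G _ hG.toMonObj str'.toMonObj π hstr'
    refine GrpObj.ext _ _ (MonObj.ext _ _ ((cancel_epi (π ⊗ₘ π)).1 ?_))
    rw [h2, hμ']
    exact hm'.symm

theorem existsUnique_action {H G : D} [GrpObj H] [GrpObj G] (u : H ⟶ G) [Mono u] [IsMonHom u] :
    ∃! act : G ⊗ coequalizer (fst G H) ((G ◁ u) ≫ μ[G]) ⟶ coequalizer (fst G H) ((G ◁ u) ≫ μ[G]),
      (η[G] ▷ coequalizer (fst G H) ((G ◁ u) ≫ μ[G])) ≫ act =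
          (λ_ (coequalizer (fst G H) ((G ◁ u) ≫ μ[G]))).hom ∧
        (μ[G] ▷ coequalizer (fst G H) ((G ◁ u) ≫ μ[G])) ≫ act =
          (α_ G G (coequalizer (fst G H) ((G ◁ u) ≫ μ[G]))).hom ≫ (G ◁ act) ≫ act ∧
        μ[G] ≫ coequalizer.π (fst G H) ((G ◁ u) ≫ μ[G]) =
          (G ◁ coequalizer.π (fst G H) ((G ◁ u) ≫ μ[G])) ≫ act := by
  let π := coequalizer.π (fst G H) ((G ◁ u) ≫ μ[G])
  haveI : Epi π := inferInstanceAs (Epi (coequalizer.π _ _))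
  haveI := epi_whiskerLeft G π
  haveI := effectiveEpi_of_epi (G ◁ π)
  have hc : ∀ {W : D} (x y : W ⟶ G ⊗ G), x ≫ (G ◁ π) = y ≫ (G ◁ π) →
      x ≫ μ[G] ≫ π = y ≫ μ[G] ≫ π := by
    intro W x y hxy
    have e₁ := hxy =≫ fst _ _
    have e₂ := hxy =≫ snd _ _
    simp only [Category.assoc, whiskerLeft_fst, whiskerLeft_snd] at e₁ e₂
    rw [← Category.assoc, ← Category.assoc y, π_eq_iff u] at e₂
    obtain ⟨h, hh⟩ := e₂
    have hmul : ∀ z : W ⟶ G ⊗ G, z ≫ μ[G] = z ≫ fst G G * z ≫ snd G G := fun z => by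
      rw [Hom.mul_def, ← comp_lift, lift_fst_snd, Category.comp_id]
    rw [← Category.assoc, ← Category.assoc y, hmul, hmul, ← hh, e₁]
    exact (π_eq_iff u _ _).2 ⟨h, mul_assoc _ _ _⟩
  let act := EffectiveEpi.desc (G ◁ π) (μ[G] ≫ π) hc
  have hact : (G ◁ π) ≫ act = μ[G] ≫ π := EffectiveEpi.fac _ _ _
  have hm : ∀ {W : D} (g a : W ⟶ G), lift g (a ≫ π) ≫ act = (g * a) ≫ π := by
    intro W g a
    rw [← lift_whiskerLeft, Category.assoc, hact, ← Category.assoc, Hom.mul_def]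
  refine ⟨act, ⟨?_, ?_, hact.symm⟩, fun a' ha' => ?_⟩
  · haveI := epi_whiskerLeft (𝟙_ D) π
    rw [← cancel_epi (𝟙_ D ◁ π)]
    have e : (𝟙_ D ◁ π) ≫ (η[G] ▷ _) = lift (1 : 𝟙_ D ⊗ G ⟶ G) (snd (𝟙_ D) G ≫ π) := by
      apply CartesianMonoidalCategory.hom_ext
      · rw [lift_fst, Category.assoc, whiskerRight_fst, ← Category.assoc, whiskerLeft_fst, Hom.one_def,
          toUnit_unique (fst (𝟙_ D) G) (toUnit _)]
      · rw [lift_snd, Category.assoc, whiskerRight_snd, whiskerLeft_snd]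
    rw [← Category.assoc, e, hm, one_mul, leftUnitor_hom, whiskerLeft_snd]
  · haveI := epi_whiskerLeft (G ⊗ G) π
    rw [← cancel_epi ((G ⊗ G) ◁ π)]
    have e : ((G ⊗ G) ◁ π) ≫ (μ[G] ▷ _) =
        lift (fst (G ⊗ G) G ≫ fst G G * fst (G ⊗ G) G ≫ snd G G) (snd (G ⊗ G) G ≫ π) := by
      apply CartesianMonoidalCategory.hom_ext
      · rw [lift_fst, Category.assoc, whiskerRight_fst, ← Category.assoc, whiskerLeft_fst, Hom.mul_def,
          ← comp_lift, lift_fst_snd, Category.comp_id]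
      · rw [lift_snd, Category.assoc, whiskerRight_snd, whiskerLeft_snd]
    have e' : ((G ⊗ G) ◁ π) ≫ (α_ G G _).hom ≫ (G ◁ act) =
        lift (fst (G ⊗ G) G ≫ fst G G) ((fst (G ⊗ G) G ≫ snd G G * snd (G ⊗ G) G) ≫ π) := by
      rw [← hm]
      apply CartesianMonoidalCategory.hom_ext
      · simp
      · simp only [Category.assoc, lift_snd, whiskerLeft_snd]
        rw [← Category.assoc (α_ _ _ _).hom, ← Category.assoc]
        congr 1
        apply CartesianMonoidalCategory.hom_ext <;> simp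
    rw [← Category.assoc, e, hm, ← Category.assoc (α_ _ _ _).hom, ← Category.assoc, e', hm, mul_assoc]
  · rw [← cancel_epi (G ◁ π), hact, ← ha'.2.2]

theorem third_iso {H K G : D} [GrpObj H] [GrpObj K] [GrpObj G] (h : H ⟶ K) (k : K ⟶ G) [Mono h] [Mono k]
    [IsMonHom h] [IsMonHom k]
    (act : coequalizer (fst G H) ((G ◁ (h ≫ k)) ≫ μ[G]) ⊗ coequalizer (fst K H) ((K ◁ h) ≫ μ[K]) ⟶
      coequalizer (fst G H) ((G ◁ (h ≫ k)) ≫ μ[G]))
    (hact : (coequalizer.π (fst G H) ((G ◁ (h ≫ k)) ≫ μ[G]) ⊗ₘ coequalizer.π (fst K H) ((K ◁ h) ≫ μ[K])) ≫ act =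
      (G ◁ k) ≫ μ[G] ≫ coequalizer.π (fst G H) ((G ◁ (h ≫ k)) ≫ μ[G]))
    (qbar : coequalizer (fst G H) ((G ◁ (h ≫ k)) ≫ μ[G]) ⟶ coequalizer (fst G K) ((G ◁ k) ≫ μ[G]))
    (hq : coequalizer.π (fst G H) ((G ◁ (h ≫ k)) ≫ μ[G]) ≫ qbar = coequalizer.π (fst G K) ((G ◁ k) ≫ μ[G])) :
    Mono (lift act (fst _ _)) ∧
    ∃ wq : fst _ _ ≫ qbar = act ≫ qbar, Nonempty (IsColimit (Cofork.ofπ qbar wq)) := by
  let π₁ := coequalizer.π (fst G H) ((G ◁ (h ≫ k)) ≫ μ[G])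
  let π₂ := coequalizer.π (fst K H) ((K ◁ h) ≫ μ[K])
  haveI : Epi π₁ := inferInstanceAs (Epi (coequalizer.π _ _))
  haveI : Epi π₂ := inferInstanceAs (Epi (coequalizer.π _ _))
  have hA : ∀ {W : D} (a : W ⟶ G) (c : W ⟶ K), lift (a ≫ π₁) (c ≫ π₂) ≫ act = (a * c ≫ k) ≫ π₁ := by
    intro W a c
    rw [← lift_map, Category.assoc, hact, ← Category.assoc (G ◁ k), ← Category.assoc, lift_act]
  haveI := epi_tensorHom π₁ π₂
  refine ⟨?_, ?_, ?_⟩
  · refine mono_of_cover (π₁ ⊗ₘ π₂) _ fun W x y hxy => ?_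
    have e₁ := hxy =≫ snd _ _
    have e₂ := hxy =≫ fst _ _
    simp only [Category.assoc, lift_snd, lift_fst, tensorHom_fst] at e₁ e₂
    have ex : ∀ z : W ⟶ G ⊗ K, z ≫ (π₁ ⊗ₘ π₂) = lift ((z ≫ fst _ _) ≫ π₁) ((z ≫ snd _ _) ≫ π₂) :=
      fun z => by
        rw [← lift_map, ← comp_lift, lift_fst_snd, Category.comp_id]
    rw [← Category.assoc, ← Category.assoc y, ex, ex, hA, hA] at e₂
    rw [← Category.assoc, ← Category.assoc y] at e₁
    obtain ⟨h₁, hh₁⟩ := (π_eq_iff (h ≫ k) _ _).1 e₁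
    obtain ⟨h₂, hh₂⟩ := (π_eq_iff (h ≫ k) _ _).1 e₂
    have e₂' : ((x ≫ fst G K) * (y ≫ snd G K) ≫ k) ≫ π₁ = (((x ≫ fst G K) * h₁ ≫ h ≫ k) * (y ≫ snd G K) ≫ k) ≫ π₁ := by
      have := (hA (x ≫ fst G K) (y ≫ snd G K)).symm
      rw [e₁, hA, ← hh₁] at this
      exact this
    rw [hh₁] at e₂'
    obtain ⟨h₃, hh₃⟩ := (π_eq_iff (h ≫ k) _ _).1 (e₂.trans e₂'.symm)
    rw [ex, ex, e₁, (π_eq_iff h (x ≫ snd G K) (y ≫ snd G K)).2 ⟨h₃, ?_⟩]
    rw [mul_assoc] at hh₃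
    have e₃ := mul_left_cancel hh₃
    rw [← Category.assoc, ← MonObj.mul_comp, cancel_mono] at e₃
    exact e₃
  · rw [← cancel_epi (π₁ ⊗ₘ π₂), tensorHom_fst_assoc, ← Category.assoc (π₁ ⊗ₘ π₂) act, hact,
      hq, Category.assoc, Category.assoc, hq, coequalizer.condition, Category.assoc]
  · haveI : Epi qbar := by
      have : Epi (π₁ ≫ qbar) := by rw [hq]; infer_instance
      exact epi_of_epi π₁ qbar
    refine ⟨Cofork.IsColimit.mk _ (fun s => coequalizer.desc (π₁ ≫ s.π) ?_) (fun s => ?_)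
      (fun s m hm => ?_)⟩
    · have := (π₁ ⊗ₘ π₂) ≫= s.condition
      rw [tensorHom_fst_assoc, ← Category.assoc (π₁ ⊗ₘ π₂) act, hact, Category.assoc, Category.assoc] at this
      rw [Category.assoc]
      exact this
    · rw [Cofork.π_ofπ, ← cancel_epi π₁, ← Category.assoc π₁ qbar, hq, coequalizer.π_desc]
    · rw [← cancel_epi (coequalizer.π (fst G K) ((G ◁ k) ≫ μ[G])), coequalizer.π_desc, ← hq, Category.assoc]
      exact congrArg (π₁ ≫ ·) hm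

theorem subgroup_correspondence {H G : D} [GrpObj H] [hG : GrpObj G] (u : H ⟶ G) [Mono u] [IsMonHom u]
    [hQ : GrpObj (coequalizer (fst G H) ((G ◁ u) ≫ μ[G]))]
    [IsMonHom (coequalizer.π (fst G H) ((G ◁ u) ≫ μ[G]))] :
    Set.BijOn (Subobject.pullback (coequalizer.π (fst G H) ((G ◁ u) ≫ μ[G]))).obj
      {K' : Subobject (coequalizer (fst G H) ((G ◁ u) ≫ μ[G])) |
        ∃ str : GrpObj (K' : D), @IsMonHom D _ _ _ _ str.toMonObj hQ.toMonObj K'.arrow}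
      {K : Subobject G | Subobject.mk u ≤ K ∧
        ∃ str : GrpObj (K : D), @IsMonHom D _ _ _ _ str.toMonObj hG.toMonObj K.arrow} ∧
    ∀ (K' : Subobject (coequalizer (fst G H) ((G ◁ u) ≫ μ[G]))),
      ((∀ (Y : D) (g : Y ⟶ coequalizer (fst G H) ((G ◁ u) ≫ μ[G])) (k : Y ⟶ (K' : D)),
          ∃ k' : Y ⟶ (K' : D), g * (k ≫ K'.arrow) * g⁻¹ = k' ≫ K'.arrow) ↔
        (∀ (Y : D) (g : Y ⟶ G)
          (k : Y ⟶ ((Subobject.pullback (coequalizer.π (fst G H) ((G ◁ u) ≫ μ[G]))).obj K' : D)),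
          ∃ k' : Y ⟶ ((Subobject.pullback (coequalizer.π (fst G H) ((G ◁ u) ≫ μ[G]))).obj K' : D),
            g * (k ≫ ((Subobject.pullback (coequalizer.π (fst G H) ((G ◁ u) ≫ μ[G]))).obj K').arrow) * g⁻¹ =
              k' ≫ ((Subobject.pullback (coequalizer.π (fst G H) ((G ◁ u) ≫ μ[G]))).obj K').arrow)) := by
  let π := coequalizer.π (fst G H) ((G ◁ u) ≫ μ[G])
  haveI : Epi π := inferInstanceAs (Epi (coequalizer.π _ _))
  haveI : IsMonHom π := inferInstanceAs (IsMonHom (coequalizer.π _ _))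
  have hu1 : ∀ {W : D} (x : W ⟶ H), (x ≫ u) ≫ π = 1 := fun x => by
    rw [← MonObj.one_comp (f := π)]
    exact ((π_eq_iff u 1 (x ≫ u)).2 ⟨x, one_mul _⟩).symm
  refine ⟨⟨fun K' hK' => ?_, (pullback_injective π).injOn, fun K hK => ?_⟩, fun K' => ?_⟩
  · obtain ⟨str, hstr⟩ := hK'
    letI := str
    haveI : IsMonHom K'.arrow := hstr
    refine ⟨le_of_mem ?_, exists_grpObj_of_mono _ ?_ (fun W x y => ?_) fun W x => ?_⟩
    · rw [mem_pullback_iff]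
      refine ⟨1, ?_⟩
      rw [MonObj.one_comp, ← Subobject.underlyingIso_hom_comp_eq_mk u, hu1]
    · exact (mem_pullback_iff π K' 1).2 ⟨1, by rw [MonObj.one_comp, MonObj.one_comp]⟩
    · obtain ⟨a, ha⟩ := (mem_pullback_iff π K' _).1 ⟨x, rfl⟩
      obtain ⟨b, hb⟩ := (mem_pullback_iff π K' _).1 ⟨y, rfl⟩
      exact (mem_pullback_iff π K' _).2 ⟨a * b, by rw [MonObj.mul_comp, MonObj.mul_comp, ha, hb]⟩
    · obtain ⟨a, ha⟩ := (mem_pullback_iff π K' _).1 ⟨x, rfl⟩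
      exact (mem_pullback_iff π K' _).2 ⟨a⁻¹, by rw [GrpObj.inv_comp, GrpObj.inv_comp, ha]⟩
  · obtain ⟨hle, str, hstr⟩ := hK
    letI := str
    haveI : IsMonHom K.arrow := hstr
    obtain ⟨K', hK'⟩ := exists_eq_pullback π K fun W y x hyx hy => by
      obtain ⟨h, rfl⟩ := (π_eq_iff u y x).1 hyx
      obtain ⟨a, ha⟩ := hy
      obtain ⟨b, hb⟩ := mem_of_le hle ((mem_mk_iff u (h ≫ u)).2 ⟨h, rfl⟩)
      exact ⟨a * b, by rw [MonObj.mul_comp, ha, hb]⟩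
    have cov : ∀ {W : D} (x : W ⟶ (K' : D)), ∃ (W' : D) (c : W' ⟶ W) (a : W' ⟶ (K : D)),
        Epi c ∧ (a ≫ K.arrow) ≫ π = c ≫ x ≫ K'.arrow := by
      intro W x
      obtain ⟨W', c, a, hc, ha⟩ := exists_cover π (x ≫ K'.arrow)
      have : Mem K a := hK' ▸ (mem_pullback_iff π K' a).2 ⟨c ≫ x, by rw [Category.assoc, ha]⟩
      obtain ⟨a', rfl⟩ := this
      exact ⟨W', c, a', hc, ha⟩
    have back : ∀ {W : D} (z : W ⟶ (K : D)), Mem K' ((z ≫ K.arrow) ≫ π) := fun z =>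
      (mem_pullback_iff π K' _).1 (hK'.symm ▸ ⟨z, rfl⟩)
    refine ⟨K', exists_grpObj_of_mono _ ?_ (fun W x y => ?_) fun W x => ?_, hK'⟩
    · obtain ⟨o, ho⟩ := back (1 : 𝟙_ D ⟶ (K : D))
      exact ⟨o, by rw [ho, MonObj.one_comp, MonObj.one_comp]⟩
    · obtain ⟨W₁, c₁, a, hc₁, ha⟩ := cov x
      obtain ⟨W₂, c₂, b, hc₂, hb⟩ := cov (c₁ ≫ y)
      refine mem_descend (c₂ ≫ c₁) ?_
      obtain ⟨z, hz⟩ := back ((c₂ ≫ a) * b)
      refine ⟨z, hz.trans ?_⟩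
      rw [MonObj.mul_comp, MonObj.mul_comp, MonObj.comp_mul, hb, Category.assoc, Category.assoc,
        ← Category.assoc a, ha]
      simp only [Category.assoc]
    · obtain ⟨W₁, c₁, a, hc₁, ha⟩ := cov x
      refine mem_descend c₁ ?_
      obtain ⟨z, hz⟩ := back a⁻¹
      exact ⟨z, hz.trans (by rw [GrpObj.inv_comp, GrpObj.inv_comp, GrpObj.comp_inv, ha])⟩
  · constructor
    · intro hN Y g k
      obtain ⟨a, ha⟩ := (mem_pullback_iff π K' _).1 ⟨k, rfl⟩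
      obtain ⟨k', hk'⟩ := hN Y (g ≫ π) a
      obtain ⟨z, hz⟩ := (mem_pullback_iff π K' (g * (k ≫ ((Subobject.pullback π).obj K').arrow) * g⁻¹)).2
        ⟨k', by rw [MonObj.mul_comp, MonObj.mul_comp, GrpObj.inv_comp, ← ha, hk']⟩
      exact ⟨z, hz.symm⟩
    · intro hN Y g k
      obtain ⟨W', c, a, b, hc, ha, hb⟩ := exists_cover₂ π π g (k ≫ K'.arrow)
      obtain ⟨b', hb'⟩ := (mem_pullback_iff π K' b).2 ⟨c ≫ k, by rw [Category.assoc, hb]⟩
      obtain ⟨k', hk'⟩ := hN W' a b'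
      rw [hb'] at hk'
      obtain ⟨z, hz⟩ := mem_descend (K := K') (x := g * (k ≫ K'.arrow) * g⁻¹) c (by
        obtain ⟨z, hz⟩ := (mem_pullback_iff π K' _).1 ⟨k', hk'.symm⟩
        exact ⟨z, hz.trans (by rw [MonObj.mul_comp, MonObj.mul_comp, GrpObj.inv_comp, MonObj.comp_mul,
          MonObj.comp_mul, GrpObj.comp_inv, ha, hb])⟩)
      exact ⟨z, hz.symm⟩

end Groth.Agent.ShfCat16
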