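import Mathlib.CategoryTheory.Sites.PrecoverageToGrothendieck
import Mathlib.CategoryTheory.Sites.Coverage

/-! The topology generated by two precoverages, the second one living on a class of objects. -/

set_option autoImplicit false
universe w v u

open CategoryTheory CategoryTheory.Limits Opposite

namespace Groth.Agent.ShfCat16.Gen

variable {C : Type u} [Category.{v} C]

/-- Composites of coverings form a covering. -/
theorem bind_mem (P : Precoverage C) [P.IsStableUnderComposition] {X : C} {R : Presieve X} (hR : R ∈ P X)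
    (B : ∀ ⦃Y : C⦄ ⦃f : Y ⟶ X⦄, R f → Presieve Y) (hB : ∀ ⦃Y : C⦄ ⦃f : Y ⟶ X⦄ (hf : R f), B hf ∈ P Y) :
    ∃ A ∈ P X, ∀ ⦃W : C⦄ (a : W ⟶ X), A a →
      ∃ (Y : C) (f : Y ⟶ X) (hf : R f) (g : W ⟶ Y), B hf g ∧ g ≫ f = a := by
  obtain ⟨ι, Z, g, rfl⟩ := R.exists_eq_ofArrows
  choose σ Y k hk using fun i => (B (Presieve.ofArrows.mk (Y := Z) (f := g) i)).exists_eq_ofArrows
  refine ⟨_, Precoverage.comp_mem_coverings g hR k fun i => hk i ▸ hB _, ?_⟩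
  rintro W a ⟨⟨i, j⟩⟩
  refine ⟨Z i, g i, ⟨i⟩, k i j, ?_, rfl⟩
  rw [hk i]
  exact ⟨j⟩

variable (C' : C → Prop) (P P' : Precoverage C)

/-- Covering by a composite of a `P`-family into `C'` and `P'`-families. -/
def Composite (X : C) (S' : Sieve X) : Prop :=
  ∃ (R : Presieve X) (_ : R ∈ P X) (_ : ∀ ⦃Y : C⦄ ⦃f : Y ⟶ X⦄, R f → C' Y)
    (R' : ∀ ⦃Y : C⦄ ⦃f : Y ⟶ X⦄, R f → Presieve Y),
    (∀ ⦃Y : C⦄ ⦃f : Y ⟶ X⦄ (hf : R f), R' hf ∈ P' Y) ∧
    ∀ ⦃Y : C⦄ ⦃f : Y ⟶ X⦄ (hf : R f) ⦃Z : C⦄ ⦃g : Z ⟶ Y⦄, R' hf g → S' (g ≫ f)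

theorem mem_of_composite {X : C} {S' : Sieve X} (h : Composite C' P P' X S') :
    S' ∈ (P ⊔ P').toGrothendieck X := by
  obtain ⟨R, hR, -, R', hR', hle⟩ := h
  refine (P ⊔ P').toGrothendieck.transitive (Precoverage.generate_mem_toGrothendieck (J := P ⊔ P') (Or.inl hR)) _ ?_
  rintro Y f ⟨Z, v, r, hr, rfl⟩
  rw [Sieve.pullback_comp]
  refine (P ⊔ P').toGrothendieck.pullback_stable _
    (GrothendieckTopology.superset_covering _ ?_
      (Precoverage.generate_mem_toGrothendieck (J := P ⊔ P') (Or.inr (hR' hr))))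
  rw [Sieve.generate_le_iff]
  exact fun W g hg => hle hr hg

theorem composite_of_mem [P.HasPullbacks] [P.IsStableUnderBaseChange] [P.IsStableUnderComposition]
    (hP'C : ∀ ⦃X : C⦄ ⦃R : Presieve X⦄, R ∈ P' X → C' X ∧ ∀ ⦃Y : C⦄ ⦃f : Y ⟶ X⦄, R f → C' Y)
    (hP'id : ∀ ⦃X : C⦄, C' X → Presieve.singleton (𝟙 X) ∈ P' X)
    (ha : ∀ ⦃X : C⦄ ⦃R : Presieve X⦄, R ∈ P' X → ∀ ⦃T : C⦄ (g : T ⟶ X), C' T →
      ∃ _ : R.HasPullbacks g, Presieve.pullbackArrows g R ∈ P' T)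
    (hb : ∀ X : C, ∃ R ∈ P X, ∀ ⦃Y : C⦄ ⦃f : Y ⟶ X⦄, R f → C' Y)
    (hc : ∀ ⦃S : C⦄ ⦃R₁ : Presieve S⦄, R₁ ∈ P' S →
      ∀ (R₂ : ∀ ⦃Y : C⦄ ⦃f : Y ⟶ S⦄, R₁ f → Presieve Y),
        (∀ ⦃Y : C⦄ ⦃f : Y ⟶ S⦄ (hf : R₁ f), R₂ hf ∈ P Y ∧ ∀ ⦃Z : C⦄ ⦃g : Z ⟶ Y⦄, R₂ hf g → C' Z) →
      ∀ (R₃ : ∀ ⦃Y : C⦄ ⦃f : Y ⟶ S⦄ (hf : R₁ f) ⦃Z : C⦄ ⦃g : Z ⟶ Y⦄, R₂ hf g → Presieve Z),
        (∀ ⦃Y : C⦄ ⦃f : Y ⟶ S⦄ (hf : R₁ f) ⦃Z : C⦄ ⦃g : Z ⟶ Y⦄ (hg : R₂ hf g), R₃ hf hg ∈ P' Z) →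
      ∃ T ∈ P' S, ∀ ⦃W : C⦄ ⦃q : W ⟶ S⦄, T q →
        ∃ (Y Z V : C) (f : Y ⟶ S) (hf : R₁ f) (g : Z ⟶ Y) (hg : R₂ hf g) (h : V ⟶ Z) (_ : R₃ hf hg h)
          (r : W ⟶ V), r ≫ h ≫ g ≫ f = q)
    {X : C} {S' : Sieve X} (h : S' ∈ (P ⊔ P').toGrothendieck X) : Composite C' P P' X S' := by
  choose B hB hBC using hb
  -- refine a `P`-covering to one with sources in `C'`
  have refineC : ∀ {X : C} {R : Presieve X}, R ∈ P X → ∃ A ∈ P X, (∀ ⦃W : C⦄ ⦃a : W ⟶ X⦄, A a → C' W) ∧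
      ∀ ⦃W : C⦄ (a : W ⟶ X), A a → ∃ (Y : C) (f : Y ⟶ X) (v : W ⟶ Y), R f ∧ v ≫ f = a := by
    intro X R hR
    obtain ⟨A, hA, hAf⟩ := bind_mem P hR (fun Y _ _ => B Y) (fun Y _ _ => hB Y)
    refine ⟨A, hA, fun W a hW => ?_, fun W a hW => ?_⟩
    · obtain ⟨Y, f, hf, g, hg, -⟩ := hAf a hW
      exact hBC Y hg
    · obtain ⟨Y, f, hf, g, -, hga⟩ := hAf a hW
      exact ⟨Y, f, g, hf, hga⟩
  induction h with
  | of X R hR =>
    rcases hR with hR | hR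
    · obtain ⟨A, hA, hAC, hAf⟩ := refineC hR
      refine ⟨A, hA, hAC, fun Y _ _ => Presieve.singleton (𝟙 Y), fun Y f hf => hP'id (hAC hf), ?_⟩
      rintro Y f hf Z g ⟨⟩
      obtain ⟨W, r, v, hr, rfl⟩ := hAf f hf
      exact ⟨W, v, r, hr, by simp⟩
    · choose inst hmem using fun (Y : C) (f : Y ⟶ X) (hf : B X f) => ha hR f (hBC X hf)
      refine ⟨B X, hB X, hBC X,
        fun Y f hf => letI := inst Y f hf; Presieve.pullbackArrows f R, fun Y f hf => hmem Y f hf, ?_⟩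
      intro Y f hf Z g hg
      letI := inst Y f hf
      obtain ⟨V, r, hr⟩ := hg
      haveI := Presieve.hasPullback f hr
      exact ⟨V, pullback.fst r f, r, hr, pullback.condition⟩
  | top X =>
    exact ⟨B X, hB X, hBC X, fun Y _ _ => Presieve.singleton (𝟙 Y),
      fun Y f hf => hP'id (hBC X hf), fun _ _ _ _ _ _ => trivial⟩
  | pullback X S _ T f ih =>
    obtain ⟨R, hR, -, R', hR', hle⟩ := ih
    haveI : R.HasPullbacks f := P.hasPullbacks_of_mem f hR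
    obtain ⟨A, hA, hAC, hAf⟩ := refineC (Precoverage.pullbackArrows_mem f hR)
    have key : ∀ (V : C) (a : V ⟶ T), A a → ∃ R₂ ∈ P' V, ∀ ⦃Z : C⦄ ⦃g : Z ⟶ V⦄, R₂ g → S ((g ≫ a) ≫ f) := by
      intro V a haA
      obtain ⟨Q, q, v, hq, rfl⟩ := hAf a haA
      obtain ⟨Y, r, hr⟩ := hq
      haveI := Presieve.hasPullback f hr
      obtain ⟨inst, hmem⟩ := ha (hR' hr) (v ≫ pullback.fst r f) (hAC haA)
      refine ⟨_, hmem, fun Z g hg => ?_⟩
      obtain ⟨U, k, hk⟩ := hg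
      haveI := Presieve.hasPullback (v ≫ pullback.fst r f) hk
      have := S.downward_closed (hle hr hk) (pullback.fst k (v ≫ pullback.fst r f))
      rw [← Category.assoc, pullback.condition] at this
      simp only [Category.assoc, ← pullback.condition (f := r) (g := f)] at this ⊢
      exact this
    choose R₂ hR₂ hR₂le using key
    exact ⟨A, hA, hAC, R₂, fun Y a ha' => hR₂ Y a ha', fun Y a ha' Z g hg => hR₂le Y a ha' hg⟩
  | transitive X S T _ _ ihS ihT =>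
    obtain ⟨R, hR, hRC, R', hR', hle⟩ := ihS
    have key : ∀ (Y : C) (f : Y ⟶ X) (hf : R f), ∃ T' ∈ P' Y, ∀ ⦃W : C⦄ ⦃q : W ⟶ Y⦄, T' q → T (q ≫ f) := by
      intro Y f hf
      choose R₂ hR₂ hR₂C R₃ hR₃ hle₃ using fun (Z : C) (g : Z ⟶ Y) (hg : R' hf g) => ihT (hle hf hg)
      obtain ⟨T', hT', hT'f⟩ := hc (hR' hf) (fun Z g hg => R₂ Z g hg)
        (fun Z g hg => ⟨hR₂ Z g hg, fun V k hk => hR₂C Z g hg hk⟩)
        (fun Z g hg V k hk => R₃ Z g hg hk) (fun Z g hg V k hk => hR₃ Z g hg hk)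
      refine ⟨T', hT', fun W q hq => ?_⟩
      obtain ⟨Z, U, V, g, hg, k, hk, m, hm, r, rfl⟩ := hT'f hq
      have := T.downward_closed (hle₃ Z g hg hk hm) r
      simpa [Category.assoc] using this
    choose T' hT' hT'le using key
    exact ⟨R, hR, hRC, T', fun Y f hf => hT' Y f hf, fun Y f hf W q hq => hT'le Y f hf hq⟩

theorem isSheaf_of_components [P.HasPullbacks] [P.IsStableUnderBaseChange]
    (ha : ∀ ⦃X : C⦄ ⦃R : Presieve X⦄, R ∈ P' X → ∀ ⦃T : C⦄ (g : T ⟶ X), C' T →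
      ∃ _ : R.HasPullbacks g, Presieve.pullbackArrows g R ∈ P' T)
    (hb : ∀ X : C, ∃ R ∈ P X, ∀ ⦃Y : C⦄ ⦃f : Y ⟶ X⦄, R f → C' Y)
    (F : Cᵒᵖ ⥤ Type w)
    (h₁ : ∀ ⦃X : C⦄ ⦃R : Presieve X⦄, R ∈ P X → Presieve.IsSheafFor F R)
    (h₂ : ∀ ⦃X : C⦄ ⦃R : Presieve X⦄, R ∈ P' X → Presieve.IsSheafFor F R) :
    Presieve.IsSheaf (P ⊔ P').toGrothendieck F := by
  have hF : Presieve.IsSheaf P.toGrothendieck F :=
    (Precoverage.isSheaf_toGrothendieck_iff_of_isStableUnderBaseChange F).2 h₁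
  rw [Precoverage.isSheaf_toGrothendieck_iff]
  intro X T f R hR
  rcases hR with hR | hR
  · exact hF _ (P.toGrothendieck.pullback_stable f (Precoverage.generate_mem_toGrothendieck hR))
  set S := (Sieve.generate R).pullback f
  -- over objects of `C'` the pulled back sieves satisfy the sheaf condition
  have hS : ∀ {V : C} (a : V ⟶ T), C' V → Presieve.IsSheafFor F (S.pullback a).arrows := by
    intro V a hV
    obtain ⟨inst, hmem⟩ := ha hR (a ≫ f) hV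
    rw [← Sieve.pullback_comp, ← Sieve.pullbackArrows_comm, ← Presieve.isSheafFor_iff_generate]
    exact h₂ hmem
  obtain ⟨A, hA, hAC⟩ := hb T
  rw [← Presieve.isSeparatedFor_and_exists_isAmalgamation_iff_isSheafFor]
  refine ⟨fun x t₁ t₂ e₁ e₂ => (h₁ hA).isSeparatedFor.ext fun V a haA => ?_, fun x hx => ?_⟩
  · refine (hS a (hAC haA)).isSeparatedFor.ext fun Z g hg => ?_
    rw [← Functor.map_comp_apply, ← Functor.map_comp_apply, ← op_comp]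
    exact (e₁ _ hg).trans (e₂ _ hg).symm
  · have amal : ∀ {V : C} (a : V ⟶ T), C' V → ∃ z : F.obj (op V), ∀ ⦃Z : C⦄ (g : Z ⟶ V) (hg : S (g ≫ a)),
        F.map g.op z = x (g ≫ a) hg := fun {V} a hV =>
      ⟨(hS a hV).amalgamate (fun Z g hg => x (g ≫ a) hg) (fun Y₁ Y₂ Z g₁ g₂ f₁ f₂ m₁ m₂ hcomm =>
          hx g₁ g₂ m₁ m₂ (by rw [← Category.assoc, hcomm, Category.assoc])),
        fun Z g hg => Presieve.IsSheafFor.valid_glue _ _ g hg⟩
    choose z hz using fun (V : C) (a : V ⟶ T) (hV : C' V) => amal a hV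
    let y : Presieve.FamilyOfElements F A := fun V a haA => z V a (hAC haA)
    have hy : y.Compatible := by
      intro Y₁ Y₂ W g₁ g₂ f₁ f₂ m₁ m₂ hcomm
      obtain ⟨B, hB, hBC⟩ := hb W
      refine (h₁ hB).isSeparatedFor.ext fun V b hbB => ?_
      rw [← Functor.map_comp_apply, ← Functor.map_comp_apply, ← op_comp, ← op_comp]
      refine (hS (b ≫ g₁ ≫ f₁) (hBC hbB)).isSeparatedFor.ext fun Z g hg => ?_
      rw [← Functor.map_comp_apply, ← Functor.map_comp_apply, ← op_comp, ← op_comp]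
      have e₂ : S ((g ≫ b ≫ g₂) ≫ f₂) := by
        simpa [Category.assoc, ← hcomm] using hg
      have e₁ : S ((g ≫ b ≫ g₁) ≫ f₁) := by
        simpa [Category.assoc] using hg
      refine (hz _ _ _ _ e₁).trans (Eq.trans ?_ (hz _ _ _ _ e₂).symm)
      have key : ∀ {q q' : Z ⟶ T} (hq : S q) (hq' : S q'), q = q' → x q hq = x q' hq' := by
        rintro q q' hq hq' rfl; rfl
      exact key _ _ (by rw [Category.assoc, Category.assoc, hcomm]; simp [Category.assoc])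
    refine ⟨(h₁ hA).amalgamate y hy, fun W s hs => ?_⟩
    refine (hF _ (P.toGrothendieck.pullback_stable s (Precoverage.generate_mem_toGrothendieck hA))).isSeparatedFor.ext
      fun Z k hk => ?_
    obtain ⟨V, v, a, haA, e⟩ := hk
    rw [← Functor.map_comp_apply, ← op_comp, ← e, op_comp, Functor.map_comp_apply,
      Presieve.IsSheafFor.valid_glue _ _ a haA]
    have h' : S (v ≫ a) := by rw [e]; exact S.downward_closed hs k
    refine (hz _ _ _ v h').trans ?_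
    have := hx (𝟙 Z) k h' hs (by rw [Category.id_comp, e])
    simpa using this

end Groth.Agent.ShfCat16.Gen
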